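import Cfsg.Agent.Lib.Helper12.TC.ONP2x144.Chk0
import Cfsg.Agent.Lib.Helper12.TC.ONP2x144.Perm
import Cfsg.Agent.Lib.Helper12.TC.ONP2x144.Fin

/-! the index theorem for ONP2x144 (generated, helper12) -/

set_option autoImplicit false
set_option maxRecDepth 100000
set_option linter.unusedSimpArgs false

namespace Cfsg.Agent.Lib.Helper12.TC.ONP2x144

open Cfsg.Agent.Lib.Helper12.TC Cfsg.Agent.Lib.Helper12.TC.ONP2Pres

/-- the chunks of the certificate -/
def chunks : List (ℕ × List ℕ) :=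
  [(143, c0)]

theorem hcover : coverK cD cK chunks = true := by decide +kernel

theorem hchunks : ∀ c ∈ chunks, chunkK F RW cR0 c.2 c.1 = true := by
  unfold chunks
  simp only [List.forall_mem_cons, List.not_mem_nil, false_imp_iff, implies_true, and_true]
  exact chunk0

/-- the subgroup generators -/
def S : Set (FreeGroup Cfsg.Agent.Lib.Helper12.Ord.ONP2.Gen) := ∅

set_option maxRecDepth 10000 in
theorem hS : (PresentedGroup.mk (Cfsg.Spor.coxRelators Cfsg.Agent.Lib.Helper12.Ord.ONP2.edges ∪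
      {r | r ∈ Cfsg.Agent.Lib.Helper12.Ord.ONP2.extra})) '' S =
    {γ | ∃ w ∈ sw, γ = wprod (fun i => PresentedGroup.mk (Cfsg.Spor.coxRelators Cfsg.Agent.Lib.Helper12.Ord.ONP2.edges ∪
      {r | r ∈ Cfsg.Agent.Lib.Helper12.Ord.ONP2.extra}) (FreeGroup.of (gen i))) w} := by
  ext γ
  constructor
  · rintro ⟨x, hx, _⟩
    exact absurd hx (Set.notMem_empty x)
  · rintro ⟨w, hw, _⟩
    exact absurd hw List.not_mem_nil

/-- the index of the subgroup and the orbits on its cosets -/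
theorem main :
    ((Subgroup.closure S).map (PresentedGroup.mk (Cfsg.Spor.coxRelators Cfsg.Agent.Lib.Helper12.Ord.ONP2.edges ∪
      {r | r ∈ Cfsg.Agent.Lib.Helper12.Ord.ONP2.extra}))).index = cN ∧
    ∃ Φ : (PresentedGroup (Cfsg.Spor.coxRelators Cfsg.Agent.Lib.Helper12.Ord.ONP2.edges ∪
      {r | r ∈ Cfsg.Agent.Lib.Helper12.Ord.ONP2.extra}) ⧸
        (Subgroup.closure S).map (PresentedGroup.mk (Cfsg.Spor.coxRelators Cfsg.Agent.Lib.Helper12.Ord.ONP2.edges ∪
      {r | r ∈ Cfsg.Agent.Lib.Helper12.Ord.ONP2.extra}))) ≃ Fin cN,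
      ∀ (b : Fin cN) (hi : ℕ), b.val < hi → hi ≤ cN → Fn.orbInvK TT sw b.val hi = true →
        Fn.orbConnK TT sw b.val hi = true →
        Φ '' (MulAction.orbit ((Subgroup.closure S).map
          (PresentedGroup.mk (Cfsg.Spor.coxRelators Cfsg.Agent.Lib.Helper12.Ord.ONP2.edges ∪
      {r | r ∈ Cfsg.Agent.Lib.Helper12.Ord.ONP2.extra}))) (Φ.symm b)) =
          {i : Fin cN | b.val ≤ i.val ∧ i.val < hi} :=
  Fn.presented_index Cfsg.Agent.Lib.Helper12.Ord.ONP2.edges Cfsg.Agent.Lib.Helper12.Ord.ONP2.extra gen idx 5 (by decide) hidx hgi hnodes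
    extraWords hextra sw S hS F RW finrecs TT rotW chunks cD cK cR0 cR cN hdefs hchunks hcover
    hrelc hlet hperm hrels hsub htrans hfin hlen (by decide)

end Cfsg.Agent.Lib.Helper12.TC.ONP2x144
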